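import Groth.Agent.AlgSt.K746.ModUnif
import Groth.Agent.AlgSt.K746.QuotGeom

/-!
# Base change of `[X/G] ⟶ Y` along a morphism of schemes: moduli properties in terms of `X ×_Y Y'`
-/

set_option autoImplicit false
set_option backward.isDefEq.respectTransparency false
set_option backward.isDefEq.respectTransparency.types false

universe w v₄ u₄ v₃ u₃ v u

open CategoryTheory CategoryTheory.Limits MonoidalCategory CartesianMonoidalCategory AlgebraicGeometry Opposite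
open K734.Fib K598.Site K746

namespace K841.FpMod

section GeomPt

variable {S : Scheme.{u}} {𝒳 : BasedCategory.{v₃, u₃} (Over S)} {M M' : AlgSp.Sp S} {π : 𝒳 ⥤ᵇ AlgSt.ofSp M}

/-- Bijectivity on geometric points is stable under base change. -/
theorem geomPtBij_fp (h𝒳 : FibCat.IsFibGrpd 𝒳.p) (g : M' ⟶ M) (h : AlgSt.GeomPtBij π) :
    AlgSt.GeomPtBij (FibCat.fpFst (AlgSt.ofSpMap g) π) := by
  intro Ω _ _ t
  constructor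
  · intro m'
    obtain ⟨x, hx⟩ := (h Ω t).1 (g.hom.app _ m')
    have e1 : (AlgSt.ofSpMap g).obj (⟨Over.mk t, m'⟩ : (AlgSt.ofSp M').obj) = π.obj x.1 :=
      ((fibSec_eq_iff _ _ _).1 hx).symm
    let z : (FibCat.fp (AlgSt.ofSpMap g) π).obj :=
      mkObj (⟨Over.mk t, m'⟩ : (AlgSt.ofSp M').obj) x.1 (eqToIso e1) (IsVert.eqToHom e1)
    exact ⟨⟨z, rfl⟩, (fibSec_eq_iff _ _ _).2 rfl⟩
  · rintro ⟨x, hx⟩ ⟨y, hy⟩ hxy
    have h1 : x.obj.fst = ⟨Over.mk t, _⟩ := (fibSec_eq_iff (FibCat.fpFst (AlgSt.ofSpMap g) π) ⟨x, hx⟩ _).1 rfl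
    have h2 : y.obj.fst = ⟨Over.mk t, _⟩ := (fibSec_eq_iff (FibCat.fpFst (AlgSt.ofSpMap g) π) ⟨y, hy⟩ _).1 rfl
    have ex : (AlgSt.ofSpMap g).obj x.obj.fst = π.obj x.obj.snd := eq_of_vert (iso_vert x)
    have ey : (AlgSt.ofSpMap g).obj y.obj.fst = π.obj y.obj.snd := eq_of_vert (iso_vert y)
    have hxT : 𝒳.p.obj x.obj.snd = Over.mk t := by
      rw [← π.w_obj, ← ex, h1]; rfl
    have hyT : 𝒳.p.obj y.obj.snd = Over.mk t := by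
      rw [← π.w_obj, ← ey, h2]; rfl
    have h3 : AlgSt.fibSec π ⟨x.obj.snd, hxT⟩ = AlgSt.fibSec π ⟨y.obj.snd, hyT⟩ := by
      rw [fibSec_eq_iff]
      have h4 := (fibSec_eq_iff π ⟨y.obj.snd, hyT⟩ _).1 rfl
      rw [← h4]
      change π.obj x.obj.snd = π.obj y.obj.snd
      rw [← ex, ← ey, h1, h2, hxy]
    obtain ⟨φ⟩ := (h Ω t).2 _ _ h3
    obtain ⟨ψ, hψ⟩ := exists_vert_of_fiberIso φ
    have e : x.obj.fst = y.obj.fst := by rw [h1, h2, hxy]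
    have hf := IsVert.eqToHom (𝒳 := AlgSt.ofSp M') e
    refine nonempty_fiberIso (isFibGrpd_fp _ _ (ModLoc.isFibGrpd_ofSp M') h𝒳 (ModLoc.isFibGrpd_ofSp M))
      (x := ⟨x, hx⟩) (y := ⟨y, hy⟩) (mkHomFp (eqToHom e) ψ ?_) (vert_fp_iff_fst.2 hf)
    apply Stk.EltObj.hom_ext
    have hv1 : IsVert (AlgSt.ofSp M) ((AlgSt.ofSpMap g).map (eqToHom e) ≫ y.obj.iso.hom) :=
      (hf.map (AlgSt.ofSpMap g)).comp (iso_vert y)
    have hv2 : IsVert (AlgSt.ofSp M) (x.obj.iso.hom ≫ π.map ψ) := (iso_vert x).comp (hψ.map π)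
    exact (hv1.map_eq).trans hv2.map_eq.symm

end GeomPt


section Cat

open K750.TorsPts

theorem psh_hom_ext {C : Type u} [Category.{v} C] {P : Cᵒᵖ ⥤ Type w} {a b : (Stk.ofPsh P).obj} {φ ψ : a ⟶ b}
    {T' T : C} (f : T' ⟶ T) (h1 : (Stk.ofPsh P).p.IsHomLift f φ) (h2 : (Stk.ofPsh P).p.IsHomLift f ψ) : φ = ψ :=
  Stk.EltObj.hom_ext ((IsHomLift.fac' (Stk.ofPsh P).p f φ).trans (IsHomLift.fac' (Stk.ofPsh P).p f ψ).symm)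

theorem exists_fp_hom {C : Type u} [Category.{v} C] {P : Cᵒᵖ ⥤ Type w} {𝒳 : BasedCategory.{v₃, u₃} C}
    {𝒴 : BasedCategory.{v₄, u₄} C} {F : 𝒳 ⥤ᵇ Stk.ofPsh P} {G : 𝒴 ⥤ᵇ Stk.ofPsh P} {a b : (FibCat.fp F G).obj}
    {T' T : C} (f₀ : T' ⟶ T) (φ₁ : a.obj.fst ⟶ b.obj.fst) (h₁ : 𝒳.p.IsHomLift f₀ φ₁)
    (φ₂ : a.obj.snd ⟶ b.obj.snd) (h₂ : 𝒴.p.IsHomLift f₀ φ₂) :
    ∃ m : a ⟶ b, (FibCat.fp F G).p.IsHomLift f₀ m ∧ m.hom.fst = φ₁ ∧ m.hom.snd = φ₂ := by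
  have ha : 𝒳.p.obj a.obj.fst = T' := IsHomLift.domain_eq 𝒳.p f₀ φ₁
  have hb : 𝒳.p.obj b.obj.fst = T := IsHomLift.codomain_eq 𝒳.p f₀ φ₁
  have h3 : (Stk.ofPsh P).p.IsHomLift (𝟙 T) b.obj.iso.hom :=
    (iso_vert b).lift ((F.w_obj b.obj.fst).trans hb)
  have h4 : (Stk.ofPsh P).p.IsHomLift (𝟙 T') a.obj.iso.hom :=
    (iso_vert a).lift ((F.w_obj a.obj.fst).trans ha)
  have h5 : (Stk.ofPsh P).p.IsHomLift f₀ (F.map φ₁) := BasedFunctor.preserves_isHomLift F f₀ φ₁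
  have h6 : (Stk.ofPsh P).p.IsHomLift f₀ (G.map φ₂) := BasedFunctor.preserves_isHomLift G f₀ φ₂
  refine ⟨mkHomFp φ₁ φ₂ (psh_hom_ext f₀ ?_ ?_), ?_, rfl, rfl⟩
  · exact IsHomLift.comp_lift_id_right' _ f₀ _ T _
  · exact IsHomLift.comp_lift_id_left' _ T' _ f₀ _
  · rw [← BasedFunctor.isHomLift_iff (FibCat.fpFst F G)]
    exact h₁

variable {S : Scheme.{u}} {G : Over S} [GrpObj G] {X : Over S} {aX : AlgGrp.Action G X}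
  {Y : Over S} {f : X ⟶ Y} {π : AlgSt.QuotSt Scheme.fppfPrecoverage G aX ⥤ᵇ AlgSt.ofSch Y}
  {X' Y' : Over S} {c : X' ⟶ X} {q : X' ⟶ Y'} {g : Y' ⟶ Y}
  (hπ : Nonempty (BasedFunctor.comp (AlgSt.quotMap Scheme.fppfPrecoverage G aX) π ≅
      AlgSt.ofSpMap ((AlgSp.yon S).map f)))

include hπ in
theorem obj_q {T : Over S} (x : T ⟶ X) : π.obj (QuotMod.q G aX x) = ⟨T, ⟨x ≫ f⟩⟩ :=
  (nonempty_iso_ofPsh_iff.1 hπ) ⟨_, ⟨x⟩⟩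

/-- The functor `X' ⟶ Y' ×_Y [X/G]` of a commutative square. -/
noncomputable def toFp (w : c ≫ f = q ≫ g) :
    AlgSt.ofSch X' ⥤ᵇ FibCat.fp (AlgSt.ofSpMap ((AlgSp.yon S).map g)) π :=
  FibCat.fpLift (AlgSt.ofSpMap ((AlgSp.yon S).map q))
    (BasedFunctor.comp (AlgSt.ofSpMap ((AlgSp.yon S).map c)) (AlgSt.quotMap Scheme.fppfPrecoverage G aX))
    (Classical.choice (nonempty_iso_ofPsh_iff.2 (by
      rintro ⟨T, ⟨x⟩⟩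
      refine Eq.trans ?_ (obj_q hπ (x ≫ c)).symm
      change (⟨T, ⟨(x ≫ q) ≫ g⟩⟩ : (AlgSt.ofSch Y).obj) = ⟨T, ⟨(x ≫ c) ≫ f⟩⟩
      rw [Category.assoc, Category.assoc, w])))

theorem toFp_fst (w : c ≫ f = q ≫ g) {T : Over S} (x : T ⟶ X') :
    ((toFp hπ w).obj (⟨T, ⟨x⟩⟩ : (AlgSt.ofSch X').obj)).obj.fst = ⟨T, ⟨x ≫ q⟩⟩ := rfl

theorem toFp_snd (w : c ≫ f = q ≫ g) {T : Over S} (x : T ⟶ X') :
    ((toFp hπ w).obj (⟨T, ⟨x⟩⟩ : (AlgSt.ofSch X').obj)).obj.snd = QuotMod.q G aX (x ≫ c) := rfl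


theorem ofSch_obj {Y Y' : Over S} (g : Y' ⟶ Y) (e : (AlgSt.ofSch Y').obj) {T : Over S} {y' : T ⟶ Y'}
    (he : e = ⟨T, ⟨y'⟩⟩) : (AlgSt.ofSpMap ((AlgSp.yon S).map g)).obj e = (⟨T, ⟨y' ≫ g⟩⟩ : (AlgSt.ofSch Y).obj) := by
  subst he
  rfl

theorem q_exists_hom (A : AlgSt.QuotObj Scheme.fppfPrecoverage G aX) {T : Over S} (x : T ⟶ X) (k : T ⟶ A.P)
    (hk : k ≫ A.φ = x) : ∃ h : QuotMod.q G aX x ⟶ A, h.base = k ≫ A.π := by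
  obtain ⟨s₀, h0, h1⟩ := QuotMod.exists_sec_q (aX := aX) x
  obtain ⟨h, hb, -⟩ := exists_hom_of_section (A := QuotMod.q G aX x) (B := A) (k ≫ A.π) s₀ h0 k rfl
    (hk.trans h1.symm)
  exact ⟨h, hb⟩

theorem isHomLift_of_base {A B : AlgSt.QuotObj Scheme.fppfPrecoverage G aX} (h : A ⟶ B) {T : Over S}
    (e : B.base = T) {f₀ : A.base ⟶ T} (hb : h.base ≫ eqToHom e = f₀) :
    (AlgSt.QuotSt Scheme.fppfPrecoverage G aX).p.IsHomLift f₀ h := by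
  subst e
  rw [eqToHom_refl, Category.comp_id] at hb
  subst hb
  exact IsHomLift.map _ h

include hπ in
theorem locSurj_toFp (sq : IsPullback c q f g) : LocSurj (AlgSp.J S) (toFp hπ sq.w) := by
  intro z
  obtain ⟨A, hA⟩ : ∃ A : AlgSt.QuotObj Scheme.fppfPrecoverage G aX, z.obj.snd = A := ⟨_, rfl⟩
  obtain ⟨y', hy'⟩ : ∃ y' : z.obj.fst.base ⟶ Y', z.obj.fst.sec = ⟨y'⟩ := ⟨z.obj.fst.sec.down, rfl⟩
  have ez : (AlgSt.ofSpMap ((AlgSp.yon S).map g)).obj z.obj.fst = π.obj z.obj.snd := eq_of_vert (iso_vert z)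
  have eb : z.obj.snd.base = z.obj.fst.base :=
    (π.w_obj z.obj.snd).symm.trans (congrArg Stk.EltObj.base ez).symm
  refine ⟨(Sieve.generate (Presieve.singleton z.obj.snd.π)).pullback (eqToHom eb.symm),
    (AlgSp.J S).pullback_stable _ (K745.QuotDesc.mem_J_of_locallyTrivial z.obj.snd.π z.obj.snd.loc), ?_⟩
  rintro T f₀ ⟨_, k, _, ⟨⟩, hk⟩
  change T ⟶ z.obj.fst.base at f₀
  -- the point of `X`
  obtain ⟨h₁, hb₁⟩ := q_exists_hom z.obj.snd (k ≫ z.obj.snd.φ) k rfl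
  have hl₁ : (AlgSt.QuotSt Scheme.fppfPrecoverage G aX).p.IsHomLift f₀ h₁ := by
    refine isHomLift_of_base h₁ eb ?_
    rw [hb₁, hk, Category.assoc, eqToHom_trans, eqToHom_refl, Category.comp_id]
  have he : z.obj.fst = (⟨z.obj.fst.base, ⟨y'⟩⟩ : (AlgSt.ofSch Y').obj) := by
    rw [← hy']
  have e1 : π.obj z.obj.snd = ⟨z.obj.fst.base, ⟨y' ≫ g⟩⟩ := ez.symm.trans (ofSch_obj g _ he)
  have e2 := elt_map (BasedFunctor.preserves_isHomLift π f₀ h₁) e1 (obj_q hπ _)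
  have e3 : f₀ ≫ y' ≫ g = (k ≫ z.obj.snd.φ) ≫ f := congrArg ULift.down e2
  let w : T ⟶ X' := sq.lift (k ≫ z.obj.snd.φ) (f₀ ≫ y') (by rw [← e3, Category.assoc])
  have hwc : w ≫ c = k ≫ z.obj.snd.φ := sq.lift_fst _ _ _
  have hwq : w ≫ q = f₀ ≫ y' := sq.lift_snd _ _ _
  obtain ⟨h₂, hb₂⟩ := q_exists_hom z.obj.snd (w ≫ c) k hwc.symm
  have hl₂ : (AlgSt.QuotSt Scheme.fppfPrecoverage G aX).p.IsHomLift f₀ h₂ := by
    refine isHomLift_of_base h₂ eb ?_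
    rw [hb₂, hk, Category.assoc, eqToHom_trans, eqToHom_refl, Category.comp_id]
  obtain ⟨φ₁, hφ₁⟩ : ∃ φ₁ : (⟨T, ⟨w ≫ q⟩⟩ : (AlgSt.ofSch Y').obj) ⟶ z.obj.fst,
      (AlgSt.ofSch Y').p.IsHomLift f₀ φ₁ := by
    refine ⟨⟨f₀, ?_⟩, (isHomLift_iff_map_eq (𝒳 := AlgSt.ofSch Y') _ _).2 rfl⟩
    rw [hwq, hy']
    rfl
  obtain ⟨m, hm, -⟩ := exists_fp_hom (a := (toFp hπ sq.w).obj (⟨T, ⟨w⟩⟩ : (AlgSt.ofSch X').obj)) (b := z)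
    f₀ φ₁ hφ₁ h₂ hl₂
  exact ⟨_, m, hm⟩

/-- Translates of a point give isomorphic objects of the fibre product. -/
theorem exists_vert_toFp (w : c ≫ f = q ≫ g) {T : Over S} (x x' : T ⟶ X') (γ : T ⟶ G)
    (h1 : x' ≫ c = act aX γ (x ≫ c)) (h2 : x' ≫ q = x ≫ q) :
    ∃ m : (toFp hπ w).obj (⟨T, ⟨x'⟩⟩ : (AlgSt.ofSch X').obj) ⟶
      (toFp hπ w).obj (⟨T, ⟨x⟩⟩ : (AlgSt.ofSch X').obj),
      IsVert (FibCat.fp (AlgSt.ofSpMap ((AlgSp.yon S).map g)) π) m := by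
  obtain ⟨s₀, h0, h0'⟩ := QuotMod.exists_sec_q (aX := aX) (x ≫ c)
  obtain ⟨h, hb⟩ := q_exists_hom (QuotMod.q G aX (x ≫ c)) (x' ≫ c)
    (act (QuotMod.q G aX (x ≫ c)).act γ s₀) (by rw [act_eqv _ aX _ (QuotMod.q G aX (x ≫ c)).eqv, h0', h1])
  have hb' : h.base = 𝟙 T := by
    rw [hb, act_comp_π _ (QuotMod.q G aX (x ≫ c)).cart, h0]
    rfl
  have e : (⟨T, ⟨x' ≫ q⟩⟩ : (AlgSt.ofSch Y').obj) = ⟨T, ⟨x ≫ q⟩⟩ := by rw [h2]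
  have hl : (AlgSt.QuotSt Scheme.fppfPrecoverage G aX).p.IsHomLift (𝟙 T) h := by
    have := IsHomLift.map (AlgSt.QuotSt Scheme.fppfPrecoverage G aX).p h
    have e1 : (AlgSt.QuotSt Scheme.fppfPrecoverage G aX).p.map h = 𝟙 T := hb'
    rw [e1] at this
    exact this
  obtain ⟨m, hm, -⟩ := exists_fp_hom (a := (toFp hπ w).obj (⟨T, ⟨x'⟩⟩ : (AlgSt.ofSch X').obj))
    (b := (toFp hπ w).obj (⟨T, ⟨x⟩⟩ : (AlgSt.ofSch X').obj))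
    (𝟙 T) (eqToHom e) ((IsVert.eqToHom e).lift rfl) h hl
  exact ⟨m, IsVert.of_lift hm⟩

include hπ in
/-- Categorical moduli property of the base change of `[X/G] ⟶ Y`. -/
theorem isCatModuliIn_fp (sq : IsPullback c q f g) {C : ObjectProperty (AlgSp.Sp S)} (hC : C ((AlgSp.yon S).obj Y'))
    (h : ∀ (N : AlgSp.Sp S), C N → ∀ ψ : (AlgSp.yon S).obj X' ⟶ N,
      (∀ {T : Over S} (x x' : T ⟶ X') (γ : T ⟶ G), x' ≫ c = act aX γ (x ≫ c) → x' ≫ q = x ≫ q →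
        ψ.hom.app (op T) ⟨x'⟩ = ψ.hom.app (op T) ⟨x⟩) →
      ∃! χ : (AlgSp.yon S).obj Y' ⟶ N, (AlgSp.yon S).map q ≫ χ = ψ) :
    AlgSt.IsCatModuliIn C (FibCat.fpFst (AlgSt.ofSpMap ((AlgSp.yon S).map g)) π) := by
  have h𝒳 : FibCat.IsFibGrpd (AlgSt.QuotSt Scheme.fppfPrecoverage G aX).p :=
    K998.QuotFib.isFibGrpd_quotSt Scheme.fppfPrecoverage G aX
  rw [isCatModuliIn_iff_of_locSurj (F := toFp hπ sq.w) (p := AlgSt.ofSpMap ((AlgSp.yon S).map q))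
    (isFibGrpd_fp _ _ (ModLoc.isFibGrpd_ofSp _) h𝒳 (ModLoc.isFibGrpd_ofSp _)) (ModLoc.isFibGrpd_ofSp _)
    (locSurj_toFp hπ sq) (fun y => rfl)]
  refine ⟨hC, fun N hN a ha => ?_⟩
  let ψ : (AlgSp.yon S).obj X' ⟶ N := ⟨pshHom a⟩
  have hψ : ∀ {T : Over S} (x : T ⟶ X'), a.obj ⟨T, ⟨x⟩⟩ = ⟨T, ψ.hom.app (op T) ⟨x⟩⟩ := fun x =>
    obj_eq_pshHom a _
  have key : ∀ χ : (AlgSp.yon S).obj Y' ⟶ N, (∀ y, (BasedFunctor.comp (AlgSt.ofSpMap ((AlgSp.yon S).map q))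
      (AlgSt.ofSpMap χ)).obj y = a.obj y) ↔ (AlgSp.yon S).map q ≫ χ = ψ := by
    intro χ
    constructor
    · intro h
      apply ObjectProperty.hom_ext
      ext T ⟨x⟩
      exact elt_inj ((h ⟨T.unop, ⟨x⟩⟩).trans (hψ x))
    · rintro h ⟨T, ⟨x⟩⟩
      rw [hψ x, ← h]
      rfl
  obtain ⟨χ, hχ, hu⟩ := h N hN ψ fun {T} x x' γ h1 h2 => by
    obtain ⟨m, hm⟩ := exists_vert_toFp hπ sq.w x x' γ h1 h2
    have := ha _ _ m hm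
    rw [hψ, hψ] at this
    exact elt_inj this
  exact ⟨χ, (key χ).2 hχ, fun χ' hχ' => hu χ' ((key χ').1 hχ')⟩

end Cat

end K841.FpMod
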