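import Groth.Agent.ConstAct.K841.Coarse
import Groth.Agent.ConstAct.K841.FpMod
import Groth.Agent.AlgSt.K735.UnivSt
import Groth.Agent.AlgSt.K734.FpAlg
import Groth.Agent.AlgSt.K738.RespIso
import Groth.Agent.AlgSt.K740.SpDM
import Groth.Agent.AlgSp.K596.Univ
import Groth.Agent.S13573

/-!
# `[Spec A / G] ⟶ Spec A^G` is a universal homeomorphism
-/

set_option autoImplicit false
set_option backward.isDefEq.respectTransparency false
set_option backward.isDefEq.respectTransparency.types false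

universe w v₄ u₄ v₃ u₃ v u

open CategoryTheory CategoryTheory.Limits AlgebraicGeometry Opposite

namespace K841.Homeo

open K735.Fib K735.Fp K735.Pts K735.Top K735.Univ

section GeomPt

variable {S : Scheme.{u}} {𝒳 : BasedCategory.{v₃, u₃} (Over S)} {M : AlgSp.Sp S} {π : 𝒳 ⥤ᵇ AlgSt.ofSp M}

/-- The geometric point over a field valued point. -/
noncomputable def clStr {T : BasedCategory.{v₄, u₄} (Over S)} (p : AlgSt.FPt T) :
    Spec (CommRingCat.of (AlgebraicClosure p.K)) ⟶ S :=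
  Spec.map (CommRingCat.ofHom (algebraMap p.K (AlgebraicClosure p.K))) ≫ p.str

noncomputable def clHom {T : BasedCategory.{v₄, u₄} (Over S)} (p : AlgSt.FPt T) :
    (Over.mk (clStr p) : Over S) ⟶ Over.mk p.str :=
  Over.homMk (Spec.map (CommRingCat.ofHom (algebraMap p.K (AlgebraicClosure p.K)))) rfl

theorem surjective_of_geomPtBij (h : AlgSt.GeomPtBij π) : Function.Surjective (AlgSt.Points.map π) := by
  intro z
  obtain ⟨z, rfl⟩ := AlgSt.Points.mk_surjective z
  obtain ⟨y, hy, φ, hφ⟩ := exists_restrict (K746.ModLoc.isFibGrpd_ofSp M) z (clStr z) (clHom z)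
  obtain ⟨T, m⟩ := y
  change T = Over.mk (clStr z) at hy
  subst hy
  obtain ⟨x, hx⟩ := (h (AlgebraicClosure z.K) (clStr z)).1 m
  have e : π.obj x.1 = _ := (K746.fibSec_eq_iff _ _ _).1 hx
  refine ⟨AlgSt.Points.mk { K := AlgebraicClosure z.K, str := clStr z, obj := x.1, lies := x.2 }, ?_⟩
  refine mk_eq_of_hom (p := AlgSt.FPt.map π { K := AlgebraicClosure z.K, str := clStr z, obj := x.1, lies := x.2 }) ?_
  exact eqToHom e ≫ φ

theorem surjective_diag_of_geomPtBij (h𝒳 : FibCat.IsFibGrpd 𝒳.p) (h : AlgSt.GeomPtBij π) :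
    Function.Surjective (AlgSt.Points.map (FibCat.diag π)) := by
  intro z
  obtain ⟨z, rfl⟩ := AlgSt.Points.mk_surjective z
  have hfp := isFibGrpd_fp h𝒳 h𝒳 (K746.ModLoc.isFibGrpd_ofSp M) π π
  obtain ⟨y, hy, φ, hφ⟩ := exists_restrict hfp z (clStr z) (clHom z)
  have hy1 : 𝒳.p.obj y.obj.fst = Over.mk (clStr z) := hy
  have hy2 : 𝒳.p.obj y.obj.snd = Over.mk (clStr z) := (fp_snd_eq y).trans hy
  have e1 : π.obj y.obj.fst = π.obj y.obj.snd := K734.Fib.eq_of_vert (K734.Fib.iso_vert y)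
  have h3 : AlgSt.fibSec π ⟨y.obj.fst, hy1⟩ = AlgSt.fibSec π ⟨y.obj.snd, hy2⟩ := by
    rw [K746.fibSec_eq_iff]
    have h4 := (K746.fibSec_eq_iff π ⟨y.obj.snd, hy2⟩ _).1 rfl
    rw [← h4]
    exact e1
  obtain ⟨a⟩ := (h (AlgebraicClosure z.K) (clStr z)).2 _ _ h3
  obtain ⟨ψ, hψ⟩ := K746.exists_vert_of_fiberIso a
  refine ⟨AlgSt.Points.mk { K := AlgebraicClosure z.K, str := clStr z, obj := y.obj.fst, lies := hy1 }, ?_⟩
  refine mk_eq_of_hom (p := AlgSt.FPt.map (FibCat.diag π)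
    { K := AlgebraicClosure z.K, str := clStr z, obj := y.obj.fst, lies := hy1 }) ?_
  refine ?_ ≫ φ
  refine homFp (𝟙 _) ψ ?_
  apply Stk.EltObj.hom_ext
  have hv1 : K734.Fib.IsVert (AlgSt.ofSp M) (π.map (𝟙 y.obj.fst) ≫ y.obj.iso.hom) := by
    rw [π.map_id, Category.id_comp]
    exact K734.Fib.iso_vert y
  have hv2 : K734.Fib.IsVert (AlgSt.ofSp M) (((FibCat.diag π).obj y.obj.fst).obj.iso.hom ≫ π.map ψ) :=
    (K734.Fib.iso_vert ((FibCat.diag π).obj y.obj.fst)).comp (hψ.map π)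
  exact (hv1.map_eq).trans hv2.map_eq.symm

end GeomPt

section Main

variable {S : Scheme.{u}} {G : Over S} [GrpObj G] [Smooth G.hom] [IsAffineHom G.hom] {X Y : Over S}
  {aX : AlgGrp.Action G X}

theorem rep_surj : AlgSt.RepByAlgSpWith AlgSp.IsSurjectiveMor (AlgSt.quotMap Scheme.fppfPrecoverage G aX) :=
  (K735.Rep.repByAlgSpWith_iff_of_sq _ (AlgSt.quotMap Scheme.fppfPrecoverage G aX)
    (BasedFunctor.comp (AlgSt.ofOverCat X) (AlgSt.quotMap Scheme.fppfPrecoverage G aX)) (AlgSt.ofOverCat X)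
    (BasedFunctor.id _) (K735.Rep.isEquivOver_ofOverCat X) isEquivOver_id (Iso.refl _)).2
    (Groth.Agent.S13573.result G X aX).2

variable {f : X ⟶ Y} {π : AlgSt.QuotSt Scheme.fppfPrecoverage G aX ⥤ᵇ AlgSt.ofSch Y}

theorem isUnivHomeo (hf : UniversallyClosed f.left)
    (hπ : BasedFunctor.comp (AlgSt.quotMap Scheme.fppfPrecoverage G aX) π = AlgSt.ofSpMap ((AlgSp.yon S).map f))
    (hg : AlgSt.GeomPtBij π) : AlgSt.IsUnivHomeo Scheme.fppfPrecoverage π := by
  intro 𝒵 h𝒵 g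
  have hQ : FibCat.IsFibGrpd (AlgSt.QuotSt Scheme.fppfPrecoverage G aX).p := K998.QuotFib.isFibGrpd_quotSt _ _ _
  have hY : FibCat.IsFibGrpd (AlgSt.ofSch Y).p := K746.ModLoc.isFibGrpd_ofSp _
  have hX : FibCat.IsFibGrpd (AlgSt.ofSch X).p := K746.ModLoc.isFibGrpd_ofSp _
  have hYa : AlgSt.IsAlgStack Scheme.fppfPrecoverage (AlgSt.ofSch Y) :=
    K740.SpDM.isAlgStack_ofSp (AlgSp.IsAlgSpace.yon_obj Y)
  have hXa : AlgSt.IsAlgStack Scheme.fppfPrecoverage (AlgSt.ofSch X) :=
    K740.SpDM.isAlgStack_ofSp (AlgSp.IsAlgSpace.yon_obj X)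
  have hat : AlgSt.HasAtlas (AlgSp.LocP @Smooth) (AlgSt.QuotSt Scheme.fppfPrecoverage G aX) :=
    ⟨X, _, (Groth.Agent.S13573.result G X aX).1, (Groth.Agent.S13573.result G X aX).2⟩
  have hfp : FibCat.IsFibGrpd (FibCat.fp g π).p := isFibGrpd_fp h𝒵.isStack.1 hQ hY g π
  have hC1 : ChartCont (FibCat.fp g π) := by
    obtain ⟨V, v, hv, hs⟩ := K734.Rep.hasAtlas_fp K734.Rep.nice_smooth
      (fun _ _ _ h => K734.Rep.locP_smooth_of_isEtaleMor h) h𝒵.isStack.1 hQ hY hYa.diag h𝒵.atlas hat g π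
    exact chartCont_of_atlas hfp v hv (surjective_of_repByAlgSpWith hfp (isFibGrpd_overCat V) hs)
  have hqa : AlgSt.IsAlgStack Scheme.fppfPrecoverage
      (FibCat.fp g (BasedFunctor.comp (AlgSt.quotMap Scheme.fppfPrecoverage G aX) π)) :=
    K734.Rep.isAlgStack_fp (K751.Test.isPrestack_of_isStack hYa.isStack) hYa.diag h𝒵 hXa g _
  have hC2 := K735.UnivSt.chartCont_of_isAlgStack hqa
  have hh : AlgSt.RepByAlgSpWith AlgSp.IsUnivClosedMor
      (BasedFunctor.comp (AlgSt.quotMap Scheme.fppfPrecoverage G aX) π) := by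
    rw [hπ]
    exact repByAlgSpWith_ofSpMap_of_repWith (P := @UniversallyClosed) (Q := AlgSp.IsUnivClosedMor)
      (fun A B m hm => (K596.Univ.repWith_universallyClosed_iff hm.1).1 hm) ((AlgSp.repWith_yon_map_iff _ f).2 hf)
  have hcl : IsClosedMap (AlgSt.Points.map (FibCat.fpFst g (BasedFunctor.comp
      (AlgSt.quotMap Scheme.fppfPrecoverage G aX) π))) :=
    isClosedMap_of_with h𝒵.isStack.1 hqa.isStack.1 hC2 (with_of_univSp (repByAlgSpWith_fpFst g hh))
  have hF : Function.Surjective (AlgSt.Points.map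
      (K734.Fib.fpPreR g (AlgSt.quotMap Scheme.fppfPrecoverage G aX) π)) :=
    surjective_of_repByAlgSpWith hfp hqa.isStack.1 (K734.Rep.repByAlgSpWith_fpPreR g π rep_surj)
  have hcl' : IsClosedMap (AlgSt.Points.map (FibCat.fpFst g π)) := by
    intro W hW
    have h1 := hcl _ (hW.preimage (continuous_map hC1 (K734.Fib.fpPreR g (AlgSt.quotMap Scheme.fppfPrecoverage G aX) π)))
    have h2 : AlgSt.Points.map (FibCat.fpFst g (BasedFunctor.comp (AlgSt.quotMap Scheme.fppfPrecoverage G aX) π)) ''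
        (AlgSt.Points.map (K734.Fib.fpPreR g (AlgSt.quotMap Scheme.fppfPrecoverage G aX) π) ⁻¹' W) =
        AlgSt.Points.map (FibCat.fpFst g π) '' W := by
      have h3 : ∀ z, AlgSt.Points.map (FibCat.fpFst g (BasedFunctor.comp (AlgSt.quotMap Scheme.fppfPrecoverage G aX) π)) z
          = AlgSt.Points.map (FibCat.fpFst g π) (AlgSt.Points.map
            (K734.Fib.fpPreR g (AlgSt.quotMap Scheme.fppfPrecoverage G aX) π) z) := fun z => by
        rw [← map_comp]
        rfl
      ext y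
      constructor
      · rintro ⟨z, hz, rfl⟩
        exact ⟨_, hz, (h3 z).symm⟩
      · rintro ⟨x, hx, rfl⟩
        obtain ⟨z, rfl⟩ := hF x
        exact ⟨z, hx, h3 z⟩
    rwa [h2] at h1
  have hinj := injective_fpFst_of_surjective_diag hQ h𝒵.isStack.1 hY g π (surjective_diag_of_geomPtBij hQ hg)
  have hsur := surjective_fpFst hQ h𝒵.isStack.1 hY g π (surjective_of_geomPtBij hg)
  exact isHomeomorph_iff_continuous_isClosedMap_bijective.2
    ⟨continuous_map (K735.UnivSt.chartCont_of_isAlgStack h𝒵) _, hcl', hinj, hsur⟩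

end Main

section Const

variable {R : Type u} [CommRing R] {A : Type u} [CommRing A] [Algebra R A]
variable {G : Type u} [Group G] [Fintype G] [DecidableEq G] [MulSemiringAction G A] [SMulCommClass G R A]

theorem smooth_GR : Smooth (ConstAct.GR R G).hom := by
  have h1 : Algebra.Etale R (ConstGrp.F R G) := inferInstanceAs (Algebra.Etale R (G → R))
  change Smooth (Spec.map (CommRingCat.ofHom (algebraMap R (ConstGrp.F R G))))
  have h2 : Etale (Spec.map (CommRingCat.ofHom (algebraMap R (ConstGrp.F R G)))) := by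
    rw [HasRingHomProperty.Spec_iff (P := @Etale)]
    exact (RingHom.etale_algebraMap).2 h1
  infer_instance

theorem isAffineHom_GR : IsAffineHom (ConstAct.GR R G).hom := by
  change IsAffineHom (Spec.map (CommRingCat.ofHom (algebraMap R (ConstGrp.F R G))))
  infer_instance

theorem universallyClosed_quot : UniversallyClosed (ConstAct.quot R A G).left := by
  change UniversallyClosed (Spec.map (CommRingCat.ofHom (ConstAct.inv R A G).val.toRingHom))
  have h : IsIntegralHom (Spec.map (CommRingCat.ofHom (ConstAct.inv R A G).val.toRingHom)) := by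
    rw [IsIntegralHom.SpecMap_iff]
    have h2 : Algebra.IsInvariant (ConstAct.inv R A G) A G := ⟨fun b hb => ⟨⟨b, hb⟩, rfl⟩⟩
    have h3 : Algebra.IsIntegral (ConstAct.inv R A G) A := Algebra.IsInvariant.isIntegral (ConstAct.inv R A G) A G
    intro a
    exact h3.isIntegral a
  infer_instance

theorem isUnivHomeo_const
    (π : ConstAct.quotSt R A G Scheme.fppfPrecoverage ⥤ᵇ AlgSt.ofSch (ConstAct.specInv R A G))
    (hπ : BasedFunctor.comp
        (AlgSt.quotMap Scheme.fppfPrecoverage (ConstAct.GR R G) (ConstAct.gaction R A G)) π =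
      AlgSt.ofSpMap ((AlgSp.yon (Spec (CommRingCat.of R))).map (ConstAct.quot R A G))) :
    AlgSt.IsUnivHomeo Scheme.fppfPrecoverage π := by
  have := smooth_GR (R := R) (G := G)
  have := isAffineHom_GR (R := R) (G := G)
  exact isUnivHomeo universallyClosed_quot hπ (K746.QuotMod.geomPtBij K841.Coarse.horb ⟨eqToIso hπ⟩)

end Const

end K841.Homeo
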