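import Mathlib.RingTheory.Invariant.Basic

/-!
# Two points of a ring with values in a domain agreeing on the invariants of a finite group are conjugate
-/

set_option autoImplicit false

open Polynomial

namespace K841.InvPt

theorem exists_smul_eq {A Ω : Type*} [CommRing A] [CommRing Ω] [IsDomain Ω] {G : Type*} [Group G] [Finite G]
    [MulSemiringAction G A] (x x' : A →+* Ω) (h : ∀ a : A, (∀ g : G, g • a = a) → x a = x' a) :
    ∃ g : G, ∀ a, x' a = x (g • a) := by
  classical
  have := Fintype.ofFinite G
  by_contra hc
  push Not at hc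
  choose a ha using hc
  let e := Fintype.equivFin G
  let F : A[X] := ∑ g, C (a g) * X ^ (e g : ℕ)
  have hF : ∀ g0, F.coeff (e g0) = a g0 := by
    intro g0
    simp only [F, finsetSum_coeff, coeff_C_mul_X_pow]
    rw [Finset.sum_eq_single g0]
    · simp
    · intro b _ hb
      rw [if_neg]
      intro h'
      exact hb (e.injective (Fin.ext h')).symm
    · simp
  let P : A[X][X] := MulSemiringAction.charpoly G F
  have hP : P.map (mapRingHom x) = P.map (mapRingHom x') := by
    ext n : 1
    rw [coeff_map, coeff_map]
    ext m
    rw [coe_mapRingHom, coe_mapRingHom, coeff_map, coeff_map]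
    apply h
    intro g
    have h1 := MulSemiringAction.smul_coeff_charpoly F n g
    have h2 := congrArg (fun q => q.coeff m) h1
    rwa [Polynomial.coeff_smul] at h2
  have h1 : (P.map (mapRingHom x')).eval (F.map x') = 0 := by
    have h2 : P.eval F = 0 := MulSemiringAction.eval_charpoly G F
    have h3 := congrArg (mapRingHom x') h2
    rw [map_zero, ← Polynomial.eval₂_hom, ← Polynomial.eval_map] at h3
    exact h3
  have hPe : P = ∏ g : G, (X - C (g • F)) := MulSemiringAction.charpoly_eq G F
  rw [← hP, hPe, Polynomial.map_prod, eval_prod, Finset.prod_eq_zero_iff] at h1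
  obtain ⟨g, -, hg⟩ := h1
  rw [Polynomial.map_sub, map_X, map_C, eval_sub, eval_X, eval_C, sub_eq_zero] at hg
  have h2 := congrArg (fun q => q.coeff (e g : ℕ)) hg
  simp only [coe_mapRingHom, coeff_map, coeff_smul, hF] at h2
  exact ha g h2

end K841.InvPt
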