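import Groth.Agent.ConstAct.K841.GeomQ
import Groth.Agent.ConstAct.K841.Alg
import Groth.Agent.AlgSt.K746.QuotGeom

/-!
# `[Spec A / G] ⟶ Spec A^G` is a coarse moduli space
-/

set_option autoImplicit false
set_option backward.isDefEq.respectTransparency false
set_option backward.isDefEq.respectTransparency.types false

universe u

open CategoryTheory CategoryTheory.Limits MonoidalCategory CartesianMonoidalCategory MonObj GrpObj AlgebraicGeometry Opposite
open K750.TorsPts TensorProduct

namespace K841.Coarse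

open Groth.Agent.GrpQ.H766.GeomQuotDef Groth.Agent.GrpQ.H766.GeomQuotLocal Groth.Agent.GrpQ.H766.AffineCase
open K841.ActGpd K841.GeomQ

variable {R : Type u} [CommRing R] {A : Type u} [CommRing A] [Algebra R A]
variable {G : Type u} [Group G] [Fintype G] [DecidableEq G] [MulSemiringAction G A] [SMulCommClass G R A]

theorem good : K746.Good (gpd (ConstAct.gaction R A G)) := by
  have hs : Mor2.IsFinLocFree (gpd (ConstAct.gaction R A G)).s := isFinLocFree_s _ (isFinLocFree_GR R G)
  have hU : IsAffine (gpd (ConstAct.gaction R A G)).U := inferInstanceAs (IsAffine (Spec (CommRingCat.of A)))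
  obtain ⟨_, _, _⟩ := hs
  exact K746.Good.of_isAffine

theorem horb (Ω : Type u) [Field Ω] [IsAlgClosed Ω] (t : Spec (CommRingCat.of Ω) ⟶ Spec (CommRingCat.of R)) :
    (∀ y : Over.mk t ⟶ ConstAct.specInv R A G, ∃ x : Over.mk t ⟶ ConstAct.X R A, x ≫ ConstAct.quot R A G = y) ∧
      (∀ x x' : Over.mk t ⟶ ConstAct.X R A, x ≫ ConstAct.quot R A G = x' ≫ ConstAct.quot R A G →
        ∃ g : Over.mk t ⟶ ConstAct.GR R G, lift g x' ≫ (ConstAct.gaction R A G).act = x) := by
  have hq : IsGeomQuot (gpd (ConstAct.gaction R A G)).s (gpd (ConstAct.gaction R A G)).t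
    (ConstAct.quot R A G).left := isGeomQuot
  constructor
  · intro y
    obtain ⟨x, hx⟩ := good.exists_geomPt_U hq y.left
    refine ⟨Over.homMk x ?_, ?_⟩
    · have h1 : (ConstAct.quot R A G).left ≫ (ConstAct.specInv R A G).hom = (ConstAct.specA R A).hom := Over.w _
      change x ≫ (ConstAct.specA R A).hom = t
      rw [← h1, reassoc_of% hx]
      exact Over.w y
    · ext
      exact hx
  · intro x x' h
    obtain ⟨r, h1, h2⟩ := good.exists_geomPt_R hq x.left x'.left (congrArg CommaMorphism.left h)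
    let r' : Over.mk t ⟶ ConstAct.GR R G ⊗ ConstAct.X R A := Over.homMk r (by
      have h3 : (snd (ConstAct.GR R G) (ConstAct.X R A)).left ≫ (ConstAct.X R A).hom = _ := Over.w _
      change r ≫ (ConstAct.GR R G ⊗ ConstAct.X R A).hom = t
      rw [← h3]
      refine (Category.assoc _ _ _).symm.trans ?_
      rw [show r ≫ (snd (ConstAct.GR R G) (ConstAct.X R A)).left = x'.left from h2]
      exact Over.w x')
    refine ⟨r' ≫ fst _ _, ?_⟩
    have h3 : r' ≫ snd _ _ = x' := by ext; exact h2
    rw [← h3, ← comp_lift, lift_fst_snd, Category.comp_id]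
    ext
    exact h1

theorem hcat (N : AlgSp.Sp (Spec (CommRingCat.of R))) (hN : AlgSp.IsAlgSpace N)
    (ψ : (AlgSp.yon (Spec (CommRingCat.of R))).obj (ConstAct.X R A) ⟶ N)
    (hψ : (AlgSp.yon (Spec (CommRingCat.of R))).map (ConstAct.gaction R A G).act ≫ ψ =
      (AlgSp.yon (Spec (CommRingCat.of R))).map (snd (ConstAct.GR R G) (ConstAct.X R A)) ≫ ψ) :
    ∃! χ : (AlgSp.yon (Spec (CommRingCat.of R))).obj (ConstAct.specInv R A G) ⟶ N,
      (AlgSp.yon (Spec (CommRingCat.of R))).map (ConstAct.quot R A G) ≫ χ = ψ := by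
  have hs : Mor2.IsFinLocFree (gpd (ConstAct.gaction R A G)).s := isFinLocFree_s _ (isFinLocFree_GR R G)
  have hU : IsAffine (gpd (ConstAct.gaction R A G)).U := inferInstanceAs (IsAffine (Spec (CommRingCat.of A)))
  exact K746.SpQuot.existsUnique_desc (G := gpd (ConstAct.gaction R A G)) hs
    (p := show K746.SpQuot.oU (gpd (ConstAct.gaction R A G)) ⟶ ConstAct.specInv R A G from ConstAct.quot R A G)
    isGeomQuot hN ψ hψ.symm


theorem exists_extend {Ω : Type u} [Field Ω] [IsAlgClosed Ω] [Algebra R Ω] (y : ↥(ConstAct.inv R A G) →ₐ[R] Ω) :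
    ∃ x : A →ₐ[R] Ω, x.comp (ConstAct.inv R A G).val = y := by
  let t : Spec (CommRingCat.of Ω) ⟶ Spec (CommRingCat.of R) := Spec.map (CommRingCat.ofHom (algebraMap R Ω))
  let y' : Over.mk t ⟶ ConstAct.specInv R A G := Over.homMk (Spec.map (CommRingCat.ofHom y.toRingHom)) (by
    change Spec.map _ ≫ Spec.map _ = Spec.map _
    rw [← Spec.map_comp, ← CommRingCat.ofHom_comp]
    congr 2
    ext r
    exact y.commutes r)
  obtain ⟨x, hx⟩ := (horb (R := R) (A := A) (G := G) Ω t).1 y'
  obtain ⟨φ, hφ⟩ := Spec.map_surjective x.left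
  have hw : x.left ≫ (ConstAct.specA R A).hom = t := Over.w x
  rw [← hφ] at hw
  have hw' : CommRingCat.ofHom (algebraMap R A) ≫ φ = CommRingCat.ofHom (algebraMap R Ω) := by
    apply Spec.map_injective
    rw [Spec.map_comp]
    exact hw
  have hx' : CommRingCat.ofHom (ConstAct.inv R A G).val.toRingHom ≫ φ = CommRingCat.ofHom y.toRingHom := by
    apply Spec.map_injective
    rw [Spec.map_comp, hφ]
    exact congrArg CommaMorphism.left hx
  refine ⟨{ φ.hom with commutes' := fun r => congr($hw' r) }, ?_⟩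
  ext a
  exact congr($hx' a)

theorem exists_conj {Ω : Type u} [Field Ω] [Algebra R Ω] (x x' : A →ₐ[R] Ω)
    (h : x.comp (ConstAct.inv R A G).val = x'.comp (ConstAct.inv R A G).val) :
    ∃ g : G, x' = x.comp (MulSemiringAction.toAlgEquiv R A g : A →ₐ[R] A) := by
  obtain ⟨g, hg⟩ := K841.InvPt.exists_smul_eq (G := G) x.toRingHom x'.toRingHom fun a ha =>
    congrArg (fun k : ↥(ConstAct.inv R A G) →ₐ[R] Ω => k ⟨a, ha⟩) h
  exact ⟨g, AlgHom.ext hg⟩

end K841.Coarse
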