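import Groth.Agent.ConstAct.K841.Coarse
import Groth.Agent.ConstAct.K841.FpMod

/-!
# Flat affine base changes of `[Spec A / G] ⟶ Spec A^G` are coarse moduli spaces
-/

set_option autoImplicit false
set_option backward.isDefEq.respectTransparency false
set_option backward.isDefEq.respectTransparency.types false

universe u

open CategoryTheory CategoryTheory.Limits MonoidalCategory CartesianMonoidalCategory MonObj GrpObj AlgebraicGeometry Opposite
open K750.TorsPts TensorProduct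

namespace K841.Coarse

open Groth.Agent.GrpQ.H766.GeomQuotDef Groth.Agent.GrpQ.H766.GeomQuotLocal Groth.Agent.GrpQ.H766.AffineCase
open K841.ActGpd K841.GeomQ K841.FpMod

/-- Descent of invariant maps along the base change of a geometric quotient of a group action. -/
theorem existsUnique_desc_bc {S : Scheme.{u}} {Γ X Y Y' : Over S} [GrpObj Γ] [IsAffine X.left] (a : AlgGrp.Action Γ X)
    (hΓ : Mor2.IsFinLocFree Γ.hom) {p : X ⟶ Y} (hp : IsGeomQuot (gpd a).s (gpd a).t p.left) [IsAffine Y'.left]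
    (g : Y' ⟶ Y) [Flat g.left] {W : Scheme.{u}} (c : W ⟶ X.left) (q : Over.mk (c ≫ X.hom) ⟶ Y')
    (sq : IsPullback c q.left p.left g.left)
    (N : AlgSp.Sp S) (hN : AlgSp.IsAlgSpace N) (ψ : (AlgSp.yon S).obj (Over.mk (c ≫ X.hom)) ⟶ N)
    (hψ : ∀ {T : Over S} (x x' : T ⟶ Over.mk (c ≫ X.hom)) (γ : T ⟶ Γ),
        x' ≫ Over.homMk c rfl = act a γ (x ≫ Over.homMk c rfl) → x' ≫ q = x ≫ q →
        ψ.hom.app (op T) ⟨x'⟩ = ψ.hom.app (op T) ⟨x⟩) :
    ∃! χ : (AlgSp.yon S).obj Y' ⟶ N, (AlgSp.yon S).map q ≫ χ = ψ := by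
  have hs := isFinLocFree_s a hΓ
  have hU : IsAffine (gpd a).U := inferInstanceAs (IsAffine X.left)
  obtain ⟨B, -, hB⟩ := K746.Act.exists_ofPullback (G := gpd a) (p := p.left) hp.w (c := c) sq
  have hgeo : IsGeomQuot B.gpd.s B.gpd.t q.left := K746.FlatBC.isGeomQuot_flat B hs hp g.left q.left sq hB
  have hgood : K746.Good (gpd a) := by
    obtain ⟨_, _, _⟩ := hs
    exact K746.Good.of_isAffine
  have : IsAffine Y.left := Groth.Agent.GrpQ.H765.FinQuot.isAffine_of_isGeomQuot (gpd a) hs hp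
  have hW : IsAffine B.gpd.U := IsAffine.of_isIso sq.isoPullback.hom
  obtain ⟨_, _, _⟩ := hs
  have hfl : Mor2.IsFinLocFree B.gpd.s :=
    ⟨MorphismProperty.of_isPullback B.isPullback_s ‹_›, MorphismProperty.of_isPullback B.isPullback_s ‹_›,
      MorphismProperty.of_isPullback B.isPullback_s ‹_›⟩
  refine K746.SpQuot.existsUnique_desc (G := B.gpd) hfl (p := (show K746.SpQuot.oU B.gpd ⟶ Y' from q)) hgeo hN ψ ?_
  apply ObjectProperty.hom_ext
  ext T ⟨r⟩
  let fR : K746.SpQuot.oR B.gpd ⟶ Γ ⊗ X := Over.homMk B.hom.fR rfl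
  have h1 : fR ≫ snd Γ X = K746.SpQuot.os B.gpd ≫ (Over.homMk c rfl : Over.mk (c ≫ X.hom) ⟶ X) := by
    ext
    exact B.hom.comm_s
  have h2 : fR ≫ a.act = K746.SpQuot.ot B.gpd ≫ (Over.homMk c rfl : Over.mk (c ≫ X.hom) ⟶ X) := by
    ext
    exact B.hom.comm_t
  have h3 : K746.SpQuot.ot B.gpd ≫ (show K746.SpQuot.oU B.gpd ⟶ Y' from q) =
      K746.SpQuot.os B.gpd ≫ (show K746.SpQuot.oU B.gpd ⟶ Y' from q) := by
    ext
    exact hB
  refine (hψ (r ≫ K746.SpQuot.os B.gpd) (r ≫ K746.SpQuot.ot B.gpd) (r ≫ fR ≫ fst Γ X) ?_ ?_).symm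
  · rw [Category.assoc, ← h2, Category.assoc, ← h1, act, ← comp_lift, ← comp_lift, lift_fst_snd, Category.comp_id,
      Category.assoc]
  · rw [Category.assoc, Category.assoc]
    exact congrArg _ h3

variable {R : Type u} [CommRing R] {A : Type u} [CommRing A] [Algebra R A]
variable {G : Type u} [Group G] [Fintype G] [DecidableEq G] [MulSemiringAction G A] [SMulCommClass G R A]

theorem isCoarseModuli_fp
    (π : ConstAct.quotSt R A G Scheme.fppfPrecoverage ⥤ᵇ AlgSt.ofSch (ConstAct.specInv R A G))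
    (hπ : BasedFunctor.comp
        (AlgSt.quotMap Scheme.fppfPrecoverage (ConstAct.GR R G) (ConstAct.gaction R A G)) π =
      AlgSt.ofSpMap ((AlgSp.yon (Spec (CommRingCat.of R))).map (ConstAct.quot R A G)))
    (Y' : Over (Spec (CommRingCat.of R))) [IsAffine Y'.left]
    (g : Y' ⟶ ConstAct.specInv R A G) [Flat g.left] :
    AlgSt.IsCoarseModuli
      (FibCat.fpFst (AlgSt.ofSpMap ((AlgSp.yon (Spec (CommRingCat.of R))).map g)) π) := by
  let c := pullback.fst (ConstAct.quot R A G).left g.left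
  let X' : Over (Spec (CommRingCat.of R)) := Over.mk (c ≫ (ConstAct.X R A).hom)
  let q : X' ⟶ Y' := Over.homMk (pullback.snd (ConstAct.quot R A G).left g.left) (by
    change _ = c ≫ (ConstAct.specA R A).hom
    rw [← Over.w (ConstAct.quot R A G), ← Over.w g, pullback.condition_assoc])
  have sq : IsPullback c q.left (ConstAct.quot R A G).left g.left := IsPullback.of_hasPullback _ _
  have sq' : IsPullback (Over.homMk c rfl : X' ⟶ ConstAct.X R A) q
      (show ConstAct.X R A ⟶ ConstAct.specInv R A G from ConstAct.quot R A G) g :=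
    IsPullback.of_map (Over.forget _) (by ext; exact sq.w) sq
  have hX : IsAffine (ConstAct.X R A).left := inferInstanceAs (IsAffine (Spec (CommRingCat.of A)))
  refine ⟨?_, geomPtBij_fp (K998.QuotFib.isFibGrpd_quotSt _ _ _) _ (K746.QuotMod.geomPtBij horb ⟨eqToIso hπ⟩)⟩
  refine isCatModuliIn_fp ⟨eqToIso hπ⟩ sq' (AlgSp.IsAlgSpace.yon_obj _) fun N hN ψ hψ => ?_
  exact existsUnique_desc_bc (ConstAct.gaction R A G) (isFinLocFree_GR R G) isGeomQuot g c q sq N hN ψ hψ

end K841.Coarse
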