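import Groth.Agent.ConstAct.K841.Gpd
import Groth.Prelude.Def_ConstAct2

/-!
# `Spec A ⟶ Spec A^G` is a geometric quotient of the action groupoid of the constant group
-/

set_option autoImplicit false
set_option backward.isDefEq.respectTransparency false
set_option backward.isDefEq.respectTransparency.types false

universe u

open CategoryTheory CategoryTheory.Limits MonoidalCategory CartesianMonoidalCategory MonObj GrpObj AlgebraicGeometry Opposite
open K750.TorsPts TensorProduct

namespace K841.GeomQ

open Groth.Agent.GrpQ.H766.GeomQuotDef Groth.Agent.GrpQ.H766.GeomQuotLocal Groth.Agent.GrpQ.H766.AffineCase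
open K841.ActGpd

variable (R : Type u) [CommRing R] (A : Type u) [CommRing A] [Algebra R A]
variable (G : Type u) [Group G] [Fintype G] [DecidableEq G] [MulSemiringAction G A] [SMulCommClass G R A]

theorem coact_inv (a : ConstAct.inv R A G) : ConstAct.coactLin R A G (a : A) = (a : A) ⊗ₜ[R] (1 : ConstGrp.F R G) := by
  rw [ConstAct.coactLin_apply]
  have h : ∀ g : G, g • (a : A) = a := a.2
  simp only [h]
  rw [← TensorProduct.tmul_sum, ConstGrp.sum_e]

/-- the quotient map is invariant -/
theorem quot_inv : (ConstAct.gaction R A G).act ≫ (show ConstAct.X R A ⟶ ConstAct.specInv R A G from ConstAct.quot R A G) =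
    snd (ConstAct.GR R G) (ConstAct.X R A) ≫ (show ConstAct.X R A ⟶ ConstAct.specInv R A G from ConstAct.quot R A G) := by
  let _ := ConstAct.comod R A G
  have _ := ConstAct.isCoactAlg R A G
  rw [ConstAct.gaction_eq]
  apply (CoactBr.action_act_comp_eq_iff (R := R) (A := ConstGrp.F R G) (B := A)
    (show ConstAct.X R A ⟶ ConstAct.specInv R A G from ConstAct.quot R A G)).2
  apply Over.OverMorphism.ext
  rw [Over.comp_left, Over.comp_left, CoactBr.ract_left]
  have h1 : (fst (CoactBr.sp R A) (CoactBr.sp R (ConstGrp.F R G))).left =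
      (pullbackSpecIso R A (ConstGrp.F R G)).hom ≫ Spec.map (CommRingCat.ofHom
        (Algebra.TensorProduct.includeLeft : A →ₐ[R] A ⊗[R] ConstGrp.F R G).toRingHom) := by
    exact (pullbackSpecIso_hom_fst R A (ConstGrp.F R G)).symm
  rw [h1, Category.assoc, Category.assoc]
  congr 1
  change Spec.map _ ≫ Spec.map _ = Spec.map _ ≫ Spec.map _
  rw [← Spec.map_comp, ← Spec.map_comp]
  congr 1
  ext a
  exact coact_inv R A G a

theorem isFinLocFree_GR : Mor2.IsFinLocFree (ConstAct.GR R G).hom := by
  have h1 : Module.Finite R (ConstGrp.F R G) := inferInstanceAs (Module.Finite R (G → R))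
  have h2 : Module.Free R (ConstGrp.F R G) := inferInstanceAs (Module.Free R (G → R))
  have h4 : Module.FinitePresentation R (ConstGrp.F R G) := Module.finitePresentation_of_projective R _
  have h3 : Algebra.FinitePresentation R (ConstGrp.F R G) := inferInstance
  refine ⟨?_, ?_, ?_⟩
  · change IsFinite (Spec.map (CommRingCat.ofHom (algebraMap R (ConstGrp.F R G))))
    rw [IsFinite.SpecMap_iff]
    exact (RingHom.finite_algebraMap).2 h1
  · change Flat (Spec.map (CommRingCat.ofHom (algebraMap R (ConstGrp.F R G))))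
    rw [Flat.SpecMap_iff]
    exact (RingHom.flat_algebraMap_iff).2 inferInstance
  · change LocallyOfFinitePresentation (Spec.map (CommRingCat.ofHom (algebraMap R (ConstGrp.F R G))))
    rw [HasRingHomProperty.Spec_iff (P := @LocallyOfFinitePresentation)]
    exact (RingHom.finitePresentation_algebraMap).2 h3


variable {R A G}

/-- A function invariant under the groupoid is an invariant element. -/
theorem eq_of_invariant (x : A) (hx : (snd (ConstAct.GR R G) (ConstAct.X R A)).left.appTop
      ((Scheme.ΓSpecIso (CommRingCat.of A)).inv x) = (ConstAct.gaction R A G).act.left.appTop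
      ((Scheme.ΓSpecIso (CommRingCat.of A)).inv x)) (g : G) : g • x = x := by
  have h1 := ConstAct.gaction_constPt R A G (K := A) g⁻¹ (AlgHom.id R A)
  rw [CoactBr.pt_id, Category.id_comp, _root_.inv_inv] at h1
  have h2 := congrArg (fun k => k.left.appTop) h1
  simp only [Over.comp_left, Scheme.Hom.comp_appTop] at h2
  have h3 : lift (CoactBr.pt (ConstAct.constPt R G (K := A) g⁻¹)) (𝟙 (ConstAct.X R A)) ≫ snd _ _ = 𝟙 _ := lift_snd _ _
  have h4 := congrArg (fun k => k.left.appTop) h3
  simp only [Over.comp_left, Scheme.Hom.comp_appTop] at h4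
  have e1 := congr($h4 ((Scheme.ΓSpecIso (CommRingCat.of A)).inv x))
  have e2 := congr($h2 ((Scheme.ΓSpecIso (CommRingCat.of A)).inv x))
  rw [CommRingCat.comp_apply] at e1 e2
  erw [hx] at e1
  have e3 := e2.symm.trans e1
  have e4 : (ConstAct.act R A G g).left.appTop ((Scheme.ΓSpecIso (CommRingCat.of A)).inv x) =
      (Scheme.ΓSpecIso (CommRingCat.of A)).inv (g • x) := by
    rw [ConstAct.act_left]
    have := Scheme.ΓSpecIso_inv_naturality (CommRingCat.ofHom (MulSemiringAction.toRingHom G A g))
    exact congr($this.symm x)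
  have e5 : (𝟙 (ConstAct.X R A) : ConstAct.X R A ⟶ ConstAct.X R A).left.appTop ((Scheme.ΓSpecIso (CommRingCat.of A)).inv x) =
      (Scheme.ΓSpecIso (CommRingCat.of A)).inv x := by
    rw [Over.id_left, Scheme.Hom.id_appTop]
    rfl
  exact (ConcreteCategory.bijective_of_isIso (Scheme.ΓSpecIso (CommRingCat.of A)).inv).1 (e4.symm.trans (e3.trans e5))

theorem isGeomQuot : IsGeomQuot (gpd (ConstAct.gaction R A G)).s (gpd (ConstAct.gaction R A G)).t
    (ConstAct.quot R A G).left := by
  let a := ConstAct.gaction R A G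
  have hs : Mor2.IsFinLocFree (gpd a).s := isFinLocFree_s a (isFinLocFree_GR R G)
  have hU : IsAffine (gpd a).U := inferInstanceAs (IsAffine (Spec (CommRingCat.of A)))
  obtain ⟨_, _, _⟩ := hs
  have hgood : K746.Good (gpd a) := K746.Good.of_isAffine
  obtain ⟨_, _, _⟩ := hgood.flf_t
  have hR : IsAffine (gpd a).R := isAffine_of_isAffineHom (gpd a).s
  have hQ := isGeomQuot_toQuot (gpd a)
  let q : (gpd a).U ⟶ Spec (CommRingCat.of (ConstAct.inv R A G)) := (ConstAct.quot R A G).left
  have hq : (gpd a).t ≫ q = (gpd a).s ≫ q := congrArg CommaMorphism.left (quot_inv R A G)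
  let k := hQ.desc q hq
  have hk : (gpd a).toQuot ≫ k = q := hQ.comp_desc _ hq
  have hk' : q.appTop = k.appTop ≫ (gpd a).toQuot.appTop := by
    rw [← Scheme.Hom.comp_appTop, hk]
  have hnat := Scheme.ΓSpecIso_inv_naturality (CommRingCat.ofHom (ConstAct.inv R A G).val.toRingHom)
  have hbij : Function.Bijective k.appTop := by
    constructor
    · intro x y hxy
      have e1 : q.appTop x = q.appTop y := by
        rw [hk', CommRingCat.comp_apply, CommRingCat.comp_apply, hxy]
      obtain ⟨x, rfl⟩ := (ConcreteCategory.bijective_of_isIso (Scheme.ΓSpecIso (CommRingCat.of (ConstAct.inv R A G))).inv).2 x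
      obtain ⟨y, rfl⟩ := (ConcreteCategory.bijective_of_isIso (Scheme.ΓSpecIso (CommRingCat.of (ConstAct.inv R A G))).inv).2 y
      have e2 := congr($hnat x)
      have e3 := congr($hnat y)
      rw [CommRingCat.comp_apply, CommRingCat.comp_apply] at e2 e3
      have e4 : (Scheme.ΓSpecIso (CommRingCat.of A)).inv (x : A) = (Scheme.ΓSpecIso (CommRingCat.of A)).inv (y : A) :=
        e2.trans (e1.trans e3.symm)
      have e5 := (ConcreteCategory.bijective_of_isIso (Scheme.ΓSpecIso (CommRingCat.of A)).inv).1 e4
      rw [Subtype.ext e5]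
    · intro x
      obtain ⟨z, hz⟩ := (ConcreteCategory.bijective_of_isIso (Scheme.ΓSpecIso (CommRingCat.of A)).inv).2
        ((gpd a).toQuot.appTop x)
      have hst := congrArg (fun k => k.appTop) hQ.w
      simp only [Scheme.Hom.comp_appTop] at hst
      have e1 := congr($hst x)
      rw [CommRingCat.comp_apply, CommRingCat.comp_apply, ← hz] at e1
      have hz' : ∀ g : G, g • z = z := eq_of_invariant (R := R) (G := G) z e1.symm
      refine ⟨(Scheme.ΓSpecIso (CommRingCat.of (ConstAct.inv R A G))).inv ⟨z, hz'⟩, hQ.inj ⊤ ?_⟩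
      have e2 := congr($hnat (⟨z, hz'⟩ : ConstAct.inv R A G))
      rw [CommRingCat.comp_apply, CommRingCat.comp_apply] at e2
      have e3 : q.appTop ((Scheme.ΓSpecIso (CommRingCat.of (ConstAct.inv R A G))).inv ⟨z, hz'⟩) =
        (gpd a).toQuot.appTop x := e2.symm.trans hz
      rw [hk', CommRingCat.comp_apply] at e3
      exact e3
  have : IsIso k.appTop := (ConcreteCategory.isIso_iff_bijective _).2 hbij
  have : IsIso k := K746.FlatBC.isIso_of_isAffine_isIso_appTop k
  change IsGeomQuot (gpd a).s (gpd a).t q
  rw [← hk]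
  exact Groth.Agent.GrpQ.H766.LocalStr.comp_iso hQ (asIso k)

end K841.GeomQ
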