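import Groth.Agent.AlgSt.K746.OGpd
import Groth.Agent.AlgSt.K746.SpQuot
import Groth.Agent.AlgSt.K750.TorsPts

/-!
# The action groupoid of a group scheme action
-/

set_option autoImplicit false
set_option backward.isDefEq.respectTransparency false
set_option backward.isDefEq.respectTransparency.types false

universe u

open CategoryTheory CategoryTheory.Limits MonoidalCategory CartesianMonoidalCategory MonObj GrpObj AlgebraicGeometry Opposite
open K750.TorsPts

namespace K841.ActGpd

variable {S : Scheme.{u}} {G X : Over S} [GrpObj G] (a : AlgGrp.Action G X)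

/-- The action groupoid `G × X ⇉ X`: source the second projection, target the action. -/
noncomputable def oGpd : K746.OGpd S where
  U := X
  R := G ⊗ X
  s := snd G X
  t := a.act
  e := lift 1 (𝟙 X)
  i := lift (fst G X)⁻¹ a.act
  mul α β _ := lift ((α ≫ fst G X) * (β ≫ fst G X)) (β ≫ snd G X)
  comp_mul f α β h h' := by
    rw [comp_lift, MonObj.comp_mul, Category.assoc, Category.assoc, Category.assoc]
  mul_s α β h := by rw [lift_snd]
  mul_t {T} α β h := by
    change act a ((α ≫ fst G X) * (β ≫ fst G X)) (β ≫ snd G X) = _
    rw [act_mul]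
    have e1 : act a (β ≫ fst G X) (β ≫ snd G X) = β ≫ a.act := by
      rw [act, ← comp_lift, lift_fst_snd, Category.comp_id]
    rw [e1, ← h, act, ← comp_lift, lift_fst_snd, Category.comp_id]
  mul_assoc α β γ h₁ h₂ h₃ h₄ := by
    apply CartesianMonoidalCategory.hom_ext
    · simp only [lift_fst, _root_.mul_assoc]
    · simp only [lift_snd]
  e_s := by rw [lift_snd]
  e_t := act_one a (𝟙 X)
  mul_e α h := by
    apply CartesianMonoidalCategory.hom_ext
    · rw [lift_fst]
      simp only [Category.assoc, lift_fst, MonObj.comp_one, _root_.mul_one]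
    · simp only [Category.assoc, lift_snd, Category.comp_id]
  e_mul α h := by
    apply CartesianMonoidalCategory.hom_ext
    · rw [lift_fst]
      simp only [Category.assoc, lift_fst, MonObj.comp_one, _root_.one_mul]
    · rw [lift_snd]
  i_s := by rw [lift_snd]
  i_t := by
    change act a (fst G X)⁻¹ a.act = _
    have e1 : a.act = act a (fst G X) (snd G X) := by rw [act, lift_fst_snd, Category.id_comp]
    conv_lhs => rw [e1]
    rw [← act_mul, inv_mul_cancel, act_one]
  mul_i α h := by
    apply CartesianMonoidalCategory.hom_ext
    · rw [lift_fst]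
      simp only [Category.assoc, lift_fst, MonObj.comp_one, GrpObj.comp_inv, mul_inv_cancel]
    · simp only [Category.assoc, lift_snd, Category.comp_id]
  i_mul α h := by
    apply CartesianMonoidalCategory.hom_ext
    · rw [lift_fst]
      simp only [Category.assoc, lift_fst, MonObj.comp_one, GrpObj.comp_inv, inv_mul_cancel]
    · simp only [Category.assoc, lift_snd, Category.comp_id]

/-- The action groupoid scheme. -/
noncomputable def gpd : Grpd.GroupoidScheme S := (oGpd a).toGpd

theorem gpd_s : (gpd a).s = (snd G X).left := rfl

theorem gpd_t : (gpd a).t = a.act.left := rfl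

theorem isPullback_snd : IsPullback (fst G X).left (snd G X).left G.hom X.hom := by
  have := (Over.forget S).map_isPullback (IsPullback.of_isLimit_binaryFan_of_isTerminal
    (c := BinaryFan.mk (fst G X) (snd G X)) (tensorProductIsBinaryProduct G X) isTerminalTensorUnit)
  exact this

theorem isFinLocFree_s (hG : Mor2.IsFinLocFree G.hom) : Mor2.IsFinLocFree (gpd a).s := by
  obtain ⟨_, _, _⟩ := hG
  exact ⟨MorphismProperty.of_isPullback isPullback_snd ‹_›, MorphismProperty.of_isPullback isPullback_snd ‹_›,
    MorphismProperty.of_isPullback isPullback_snd ‹_›⟩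

end K841.ActGpd
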