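import Groth.Agent.ConstAct.K841.Univ
import Groth.Agent.AlgSt.K744.TorsProp
import Groth.Prelude.Def_StMod2

/-!
# `O_Y ⟶ π_* O_{[X/G]}` is an isomorphism when invariant functions descend
-/

set_option autoImplicit false
set_option backward.isDefEq.respectTransparency false
set_option backward.isDefEq.respectTransparency.types false

universe w v₄ u₄ v₃ u₃ v u

open CategoryTheory CategoryTheory.Limits MonoidalCategory CartesianMonoidalCategory AlgebraicGeometry Opposite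
open K734.Fib K598.Site K746

namespace K841.UnitIso

open K750.TorsPts K841.FpMod

variable {S : Scheme.{u}} {G : Over S} [GrpObj G] {X : Over S} {aX : AlgGrp.Action G X}
  {Y : Over S} {f : X ⟶ Y} {π : AlgSt.QuotSt Scheme.fppfPrecoverage G aX ⥤ᵇ AlgSt.ofSch Y}
  {X' Y' : Over S} {c : X' ⟶ X} {q : X' ⟶ Y'} {g : Y' ⟶ Y}
  (hπ : Nonempty (BasedFunctor.comp (AlgSt.quotMap Scheme.fppfPrecoverage G aX) π ≅
      AlgSt.ofSpMap ((AlgSp.yon S).map f)))

theorem arrow_ext {ξ : (AlgSt.QuotSt Scheme.fppfPrecoverage G aX).obj} {η : (AlgSt.ofSch Y).obj}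
    {α α' : π.obj ξ ⟶ η} (h : StMod.baseOver π ξ α = StMod.baseOver π ξ α') : α = α' := by
  apply Stk.EltObj.hom_ext
  exact (cancel_epi (eqToHom (π.w_obj ξ).symm)).1 h

include hπ in
theorem exists_arrow {T : Over S} (x : T ⟶ X) (β : T ⟶ Y') (h : x ≫ f = β ≫ g) :
    ∃ α : π.obj (QuotMod.q G aX x) ⟶ (⟨Y', ⟨g⟩⟩ : (AlgSt.ofSch Y).obj),
      StMod.baseOver π (QuotMod.q G aX x) α = β := by
  have e := obj_q hπ x
  let α₁ : (⟨T, ⟨x ≫ f⟩⟩ : (AlgSt.ofSch Y).obj) ⟶ ⟨Y', ⟨g⟩⟩ := ⟨β, by rw [h]; rfl⟩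
  refine ⟨eqToHom e ≫ α₁, ?_⟩
  rw [StMod.baseOver_comp]
  have h1 : StMod.baseOver π (QuotMod.q G aX x) (eqToHom e) = 𝟙 T := by
    rw [StMod.baseOver, eqToHom_map, eqToHom_trans, eqToHom_refl]
    rfl
  rw [h1]
  exact Category.id_comp β

include hπ in
theorem arrow_w {T : Over S} (x : T ⟶ X) (α : π.obj (QuotMod.q G aX x) ⟶ (⟨Y', ⟨g⟩⟩ : (AlgSt.ofSch Y).obj)) :
    StMod.baseOver π (QuotMod.q G aX x) α ≫ g = x ≫ f := by
  have h0 : (AlgSt.ofSch Y).p.IsHomLift (StMod.baseOver π (QuotMod.q G aX x) α) α :=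
    IsHomLift.lift_eqToHom_comp (AlgSt.ofSch Y).p _ _ _
  have h := elt_map h0 rfl (obj_q hπ x)
  exact congrArg ULift.down h

/-- Values of a section of the pushforward at trivial torsors, from the value at the universal one. -/
theorem val_eq (s : (StMod.O (AlgSt.QuotSt Scheme.fppfPrecoverage G aX)).RelSect π (⟨Y', ⟨g⟩⟩ : (AlgSt.ofSch Y).obj))
    (α₀ : π.obj (QuotMod.q G aX c) ⟶ (⟨Y', ⟨g⟩⟩ : (AlgSt.ofSch Y).obj))
    (hα₀ : StMod.baseOver π (QuotMod.q G aX c) α₀ = q) {T : Over S} (x : T ⟶ X)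
    (α : π.obj (QuotMod.q G aX x) ⟶ (⟨Y', ⟨g⟩⟩ : (AlgSt.ofSch Y).obj)) (w : T ⟶ X') (hw : w ≫ c = x)
    (hα : StMod.baseOver π (QuotMod.q G aX x) α = w ≫ q) :
    s.1 (QuotMod.q G aX x) α = w.left.appTop (show Γ(X'.left, ⊤) from s.1 (QuotMod.q G aX c) α₀) := by
  subst hw
  let k : (⟨T, ⟨w ≫ c⟩⟩ : (AlgSt.ofSch X).obj) ⟶ ⟨X', ⟨c⟩⟩ := ⟨w, rfl⟩
  let φ : QuotMod.q G aX (w ≫ c) ⟶ QuotMod.q G aX c := (AlgSt.quotMap Scheme.fppfPrecoverage G aX).map k
  have h1 := s.2 φ α₀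
  have h2 : π.map φ ≫ α₀ = α := by
    apply arrow_ext
    rw [hα, ← StMod.map_comp_baseOver, hα₀]
    rfl
  rw [h2] at h1
  exact h1.symm

include hπ in
/-- The value at the universal trivial torsor is invariant. -/
theorem val_inv (hw : c ≫ f = q ≫ g)
    (s : (StMod.O (AlgSt.QuotSt Scheme.fppfPrecoverage G aX)).RelSect π (⟨Y', ⟨g⟩⟩ : (AlgSt.ofSch Y).obj))
    (α₀ : π.obj (QuotMod.q G aX c) ⟶ (⟨Y', ⟨g⟩⟩ : (AlgSt.ofSch Y).obj))
    (hα₀ : StMod.baseOver π (QuotMod.q G aX c) α₀ = q) {T : Over S} (x x' : T ⟶ X') (γ : T ⟶ G)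
    (h1 : x' ≫ c = act aX γ (x ≫ c)) (h2 : x' ≫ q = x ≫ q) :
    x'.left.appTop (show Γ(X'.left, ⊤) from s.1 (QuotMod.q G aX c) α₀) =
      x.left.appTop (show Γ(X'.left, ⊤) from s.1 (QuotMod.q G aX c) α₀) := by
  obtain ⟨α, hα⟩ := exists_arrow hπ (x ≫ c) (x ≫ q) (by rw [Category.assoc, hw, Category.assoc])
  obtain ⟨α', hα'⟩ := exists_arrow hπ (x' ≫ c) (x' ≫ q) (by rw [Category.assoc, hw, Category.assoc])
  rw [← val_eq s α₀ hα₀ _ α x rfl hα, ← val_eq s α₀ hα₀ _ α' x' rfl hα']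
  obtain ⟨s₀, h0, h0'⟩ := QuotMod.exists_sec_q (aX := aX) (x ≫ c)
  obtain ⟨h, hb⟩ := q_exists_hom (QuotMod.q G aX (x ≫ c)) (x' ≫ c)
    (act (QuotMod.q G aX (x ≫ c)).act γ s₀) (by rw [act_eqv _ aX _ (QuotMod.q G aX (x ≫ c)).eqv, h0', h1])
  have hb' : h.base = 𝟙 T := by
    rw [hb, act_comp_π _ (QuotMod.q G aX (x ≫ c)).cart, h0]
    rfl
  have h3 := s.2 h α
  have h4 : π.map h ≫ α = α' := by
    apply arrow_ext
    rw [hα', ← StMod.map_comp_baseOver, hα, h2]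
    change h.base ≫ (x ≫ q) = _
    rw [hb']
    exact Category.id_comp _
  rw [h4] at h3
  rw [← h3]
  change (show T.left ⟶ T.left from h.base.left).appTop _ = _
  rw [hb']
  change (𝟙 T.left : T.left ⟶ T.left).appTop _ = _
  rw [Scheme.Hom.id_appTop]
  rfl

include hπ in
theorem bijective_unitSect (sq : IsPullback c q f g) [Flat G.hom]
    (hdesc : ∀ (a : Γ(X'.left, ⊤)), (∀ {T : Over S} (x x' : T ⟶ X') (γ : T ⟶ G), x' ≫ c = act aX γ (x ≫ c) →
      x' ≫ q = x ≫ q → x'.left.appTop a = x.left.appTop a) → ∃! r : Γ(Y'.left, ⊤), q.left.appTop r = a) :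
    Function.Bijective (StMod.unitSect π (⟨Y', ⟨g⟩⟩ : (AlgSt.ofSch Y).obj)) := by
  obtain ⟨α₀, hα₀⟩ := exists_arrow hπ c q sq.w
  constructor
  · intro r r' h
    have h1 := congrArg (fun s => s.1 (QuotMod.q G aX c) α₀) h
    simp only [StMod.unitSect_val] at h1
    rw [hα₀] at h1
    refine (hdesc (q.left.appTop r) ?_).unique rfl h1.symm
    intro T x x' γ _ h2
    have h3 := congrArg (fun k => k.left.appTop r) h2
    simpa only [Over.comp_left, Scheme.Hom.comp_appTop, CommRingCat.comp_apply] using h3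
  · intro s
    obtain ⟨r, hr, -⟩ := hdesc (show Γ(X'.left, ⊤) from s.1 (QuotMod.q G aX c) α₀)
      fun {T} x x' γ h1 h2 => val_inv hπ sq.w s α₀ hα₀ x x' γ h1 h2
    refine ⟨r, StMod.Mod.RelSect.ext _ _ _ fun ξ α => ?_⟩
    rw [StMod.unitSect_val]
    have : Flat ξ.π.left := K744.TorsProp.flat_of_torsor ξ
    have : Surjective ξ.π.left := K744.TorsProp.surjective_of_torsor ξ
    have : Epi ξ.π.left := Flat.epi_of_flat_of_surjective _
    apply appTop_injective ξ.π.left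
    have h1 := s.2 (K745.QuotDesc.actHom ξ) α
    have h2 : StMod.baseOver π (QuotMod.q G aX ξ.φ) (π.map (K745.QuotDesc.actHom ξ) ≫ α) =
        ξ.π ≫ StMod.baseOver π ξ α := (StMod.map_comp_baseOver π (K745.QuotDesc.actHom ξ) α).symm
    have h3 := arrow_w hπ ξ.φ (π.map (K745.QuotDesc.actHom ξ) ≫ α)
    let w : ξ.P ⟶ X' := sq.lift ξ.φ (ξ.π ≫ StMod.baseOver π ξ α) (by rw [← h3, h2])
    have h4 := val_eq s α₀ hα₀ ξ.φ (π.map (K745.QuotDesc.actHom ξ) ≫ α) w (sq.lift_fst _ _ _) (by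
      rw [h2]; exact (sq.lift_snd _ _ _).symm)
    refine Eq.trans ?_ h1.symm
    refine Eq.trans ?_ h4.symm
    rw [← hr]
    have h5 : w ≫ q = ξ.π ≫ StMod.baseOver π ξ α := sq.lift_snd _ _ _
    have h6 := congrArg (fun k => k.left.appTop r) h5
    simp only [Over.comp_left, Scheme.Hom.comp_appTop] at h6
    exact h6.symm


end K841.UnitIso

namespace K841.Coarse

open K841.FpMod K841.GeomQ K841.ActGpd Groth.Agent.GrpQ.H766.GeomQuotDef

variable {R : Type u} [CommRing R] {A : Type u} [CommRing A] [Algebra R A]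
variable {G : Type u} [Group G] [Fintype G] [DecidableEq G] [MulSemiringAction G A] [SMulCommClass G R A]

theorem isUnifCatModuli
    (π : ConstAct.quotSt R A G Scheme.fppfPrecoverage ⥤ᵇ AlgSt.ofSch (ConstAct.specInv R A G))
    (hπ : BasedFunctor.comp
        (AlgSt.quotMap Scheme.fppfPrecoverage (ConstAct.GR R G) (ConstAct.gaction R A G)) π =
      AlgSt.ofSpMap ((AlgSp.yon (Spec (CommRingCat.of R))).map (ConstAct.quot R A G))) :
    AlgSt.IsUnifCatModuli π := by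
  refine ModLoc.isUnifCatModuli_of_affine_flat (K998.QuotFib.isFibGrpd_quotSt _ _ _) (AlgSp.IsAlgSpace.yon_obj _) π
    fun Y' hY' g hg => ?_
  obtain ⟨g, rfl⟩ := (AlgSp.yon _).map_surjective g
  have := AlgSp.locP_yon_map hg
  exact (isCoarseModuli_fp π hπ Y' g).1

theorem unitIsIso
    (π : ConstAct.quotSt R A G Scheme.fppfPrecoverage ⥤ᵇ AlgSt.ofSch (ConstAct.specInv R A G))
    (hπ : BasedFunctor.comp
        (AlgSt.quotMap Scheme.fppfPrecoverage (ConstAct.GR R G) (ConstAct.gaction R A G)) π =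
      AlgSt.ofSpMap ((AlgSp.yon (Spec (CommRingCat.of R))).map (ConstAct.quot R A G))) :
    StMod.UnitIsIso π := by
  intro E
  obtain ⟨g, hg⟩ := (AlgSp.yon _).map_surjective E.obj.hom
  have he : StMod.etaOf E = (⟨E.obj.left, ⟨g⟩⟩ : (AlgSt.ofSch (ConstAct.specInv R A G)).obj) := by
    have h1 : (AlgSp.J (Spec (CommRingCat.of R))).uliftYonedaEquiv E.obj.hom = ⟨g⟩ := by
      rw [← hg]
      apply ULift.ext
      change 𝟙 _ ≫ g = g
      rw [Category.id_comp]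
    exact congrArg (fun s => (⟨E.obj.left, s⟩ : (AlgSt.ofSch (ConstAct.specInv R A G)).obj)) h1
  rw [he]
  let c := pullback.fst (ConstAct.quot R A G).left g.left
  let X' : Over (Spec (CommRingCat.of R)) := Over.mk (c ≫ (ConstAct.X R A).hom)
  let q : X' ⟶ E.obj.left := Over.homMk (pullback.snd (ConstAct.quot R A G).left g.left) (by
    change _ = c ≫ (ConstAct.specA R A).hom
    rw [← Over.w (ConstAct.quot R A G), ← Over.w g, pullback.condition_assoc])
  have sq : IsPullback c q.left (ConstAct.quot R A G).left g.left := IsPullback.of_hasPullback _ _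
  have sq' : IsPullback (Over.homMk c rfl : X' ⟶ ConstAct.X R A) q
      (show ConstAct.X R A ⟶ ConstAct.specInv R A G from ConstAct.quot R A G) g :=
    IsPullback.of_map (Over.forget _) (by ext; exact sq.w) sq
  have hcat := (isUnifCatModuli π hπ).2 _ (AlgSp.IsAlgSpace.yon_obj E.obj.left) ((AlgSp.yon _).map g) (by
    rw [hg]
    exact ModLoc.locP_flat_of_etale E.property)
  obtain ⟨_, hfl, _⟩ := isFinLocFree_GR R G
  refine UnitIso.bijective_unitSect ⟨eqToIso hπ⟩ sq' fun a ha => ?_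
  exact existsUnique_fun (fun N hN ψ hψ => existsUnique_of_isCatModuliIn ⟨eqToIso hπ⟩ sq' hcat N hN ψ hψ) a ha

end K841.Coarse
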