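import Groth.Agent.ConstAct.K841.CoarseBC
import Mathlib.AlgebraicGeometry.AffineSpace

/-!
# Uniform categorical moduli property and descent of invariant functions
-/

set_option autoImplicit false
set_option backward.isDefEq.respectTransparency false
set_option backward.isDefEq.respectTransparency.types false

universe w v₄ u₄ v₃ u₃ v u

open CategoryTheory CategoryTheory.Limits MonoidalCategory CartesianMonoidalCategory AlgebraicGeometry Opposite
open K734.Fib K598.Site K746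

namespace K841.FpMod

open K750.TorsPts

variable {S : Scheme.{u}} {G : Over S} [GrpObj G] {X : Over S} {aX : AlgGrp.Action G X}
  {Y : Over S} {f : X ⟶ Y} {π : AlgSt.QuotSt Scheme.fppfPrecoverage G aX ⥤ᵇ AlgSt.ofSch Y}
  {X' Y' : Over S} {c : X' ⟶ X} {q : X' ⟶ Y'} {g : Y' ⟶ Y}
  (hπ : Nonempty (BasedFunctor.comp (AlgSt.quotMap Scheme.fppfPrecoverage G aX) π ≅
      AlgSt.ofSpMap ((AlgSp.yon S).map f)))

theorem exists_act_of_vert {T : Over S} (x x' : T ⟶ X) (h : QuotMod.q G aX x ⟶ QuotMod.q G aX x')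
    (hv : h.base = 𝟙 T) : ∃ γ : T ⟶ G, x = act aX γ x' := by
  obtain ⟨s₀, h0, h0'⟩ := QuotMod.exists_sec_q (aX := aX) x
  obtain ⟨s₁, h1, h1'⟩ := QuotMod.exists_sec_q (aX := aX) x'
  let t : T ⟶ (QuotMod.q G aX x').P := s₀ ≫ h.top
  have ht : t ≫ (QuotMod.q G aX x').π = 𝟙 T := by
    rw [Category.assoc, h.cart.w, reassoc_of% h0, hv]
  obtain ⟨γ, hγ⟩ : ∃ γ : T ⟶ G, act (QuotMod.q G aX x').act γ s₁ = t :=
    ⟨_, act_dif _ (QuotMod.q G aX x').cart s₁ t (ht.trans h1.symm)⟩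
  refine ⟨γ, ?_⟩
  have e := act_eqv _ aX _ (QuotMod.q G aX x').eqv γ s₁
  rw [h1', hγ, Category.assoc, h.wφ, h0'] at e
  exact e

include hπ in
/-- Invariant maps descend when the base change is a categorical moduli space. -/
theorem existsUnique_of_isCatModuliIn (sq : IsPullback c q f g) {C : ObjectProperty (AlgSp.Sp S)}
    (hcat : AlgSt.IsCatModuliIn C (FibCat.fpFst (AlgSt.ofSpMap ((AlgSp.yon S).map g)) π))
    (N : AlgSp.Sp S) (hN : C N) (ψ : (AlgSp.yon S).obj X' ⟶ N)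
    (hψ : ∀ {T : Over S} (x x' : T ⟶ X') (γ : T ⟶ G), x' ≫ c = act aX γ (x ≫ c) → x' ≫ q = x ≫ q →
        ψ.hom.app (op T) ⟨x'⟩ = ψ.hom.app (op T) ⟨x⟩) :
    ∃! χ : (AlgSp.yon S).obj Y' ⟶ N, (AlgSp.yon S).map q ≫ χ = ψ := by
  have h𝒳 : FibCat.IsFibGrpd (AlgSt.QuotSt Scheme.fppfPrecoverage G aX).p :=
    K998.QuotFib.isFibGrpd_quotSt Scheme.fppfPrecoverage G aX
  rw [isCatModuliIn_iff_of_locSurj (F := toFp hπ sq.w) (p := AlgSt.ofSpMap ((AlgSp.yon S).map q))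
    (isFibGrpd_fp _ _ (ModLoc.isFibGrpd_ofSp _) h𝒳 (ModLoc.isFibGrpd_ofSp _)) (ModLoc.isFibGrpd_ofSp _)
    (locSurj_toFp hπ sq) (fun y => rfl)] at hcat
  have key : ∀ χ : (AlgSp.yon S).obj Y' ⟶ N, (∀ y, (BasedFunctor.comp (AlgSt.ofSpMap ((AlgSp.yon S).map q))
      (AlgSt.ofSpMap χ)).obj y = (AlgSt.ofSpMap ψ).obj y) ↔ (AlgSp.yon S).map q ≫ χ = ψ := by
    intro χ
    constructor
    · intro h
      apply ObjectProperty.hom_ext
      ext T ⟨x⟩
      exact elt_inj (h ⟨T.unop, ⟨x⟩⟩)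
    · rintro h ⟨T, ⟨x⟩⟩
      rw [← h]
      rfl
  obtain ⟨χ, hχ, hu⟩ := hcat.2 N hN (AlgSt.ofSpMap ψ) (by
    rintro ⟨T, ⟨x⟩⟩ ⟨T', ⟨x'⟩⟩ m hm
    have hT : T = T' := hm.obj_eq
    subst hT
    have e1 : (⟨T, ⟨x ≫ q⟩⟩ : (AlgSt.ofSch Y').obj) = ⟨T, ⟨x' ≫ q⟩⟩ := eq_of_vert (vert_fp_iff_fst.1 hm)
    have e2 : x ≫ q = x' ≫ q := congrArg ULift.down (elt_inj e1)
    have e3 := vert_fp_iff_snd.1 hm
    obtain ⟨γ, hγ⟩ := exists_act_of_vert (x ≫ c) (x' ≫ c) m.hom.snd (e3.map_eq)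
    change (⟨T, ψ.hom.app (op T) ⟨x⟩⟩ : (AlgSt.ofSp N).obj) = ⟨T, ψ.hom.app (op T) ⟨x'⟩⟩
    rw [hψ x' x γ hγ e2])
  exact ⟨χ, (key χ).1 hχ, fun χ' hχ' => hu χ' ((key χ').2 hχ')⟩

/-- Equality of global functions can be checked after a flat surjective morphism. -/
theorem appTop_injective {V W : Scheme.{u}} (w : V ⟶ W) [Epi w] : Function.Injective w.appTop := by
  intro a b h
  have h1 : w ≫ AffineSpace.homOfVector (n := PUnit.{u + 1}) (𝟙 W) (fun _ => a) =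
      w ≫ AffineSpace.homOfVector (n := PUnit.{u + 1}) (𝟙 W) (fun _ => b) := by
    apply AffineSpace.hom_ext
    · simp
    · intro i
      rw [Scheme.Hom.comp_appTop, Scheme.Hom.comp_appTop, CommRingCat.comp_apply, CommRingCat.comp_apply,
        AffineSpace.homOfVector_appTop_coord, AffineSpace.homOfVector_appTop_coord, h]
  have h2 := (cancel_epi w).1 h1
  have h3 := congrArg (fun k => k.appTop (AffineSpace.coord W (PUnit.unit : PUnit.{u + 1}))) h2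
  simpa using h3

/-- Descent of invariant functions from descent of invariant maps. -/
theorem existsUnique_fun
    (h : ∀ (N : AlgSp.Sp S), AlgSp.IsAlgSpace N → ∀ ψ : (AlgSp.yon S).obj X' ⟶ N,
      (∀ {T : Over S} (x x' : T ⟶ X') (γ : T ⟶ G), x' ≫ c = act aX γ (x ≫ c) → x' ≫ q = x ≫ q →
        ψ.hom.app (op T) ⟨x'⟩ = ψ.hom.app (op T) ⟨x⟩) →
      ∃! χ : (AlgSp.yon S).obj Y' ⟶ N, (AlgSp.yon S).map q ≫ χ = ψ)
    (a : Γ(X'.left, ⊤)) (ha : ∀ {T : Over S} (x x' : T ⟶ X') (γ : T ⟶ G), x' ≫ c = act aX γ (x ≫ c) →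
      x' ≫ q = x ≫ q → x'.left.appTop a = x.left.appTop a) :
    ∃! r : Γ(Y'.left, ⊤), q.left.appTop r = a := by
  let A : Over S := Over.mk (𝔸(PUnit.{u + 1}; S) ↘ S)
  let mk : ∀ {V : Over S} (b : Γ(V.left, ⊤)), V ⟶ A := fun {V} b =>
    Over.homMk (AffineSpace.homOfVector V.hom (fun _ => b)) (AffineSpace.homOfVector_over _ _)
  let co : ∀ {V : Over S} (k : V ⟶ A), Γ(V.left, ⊤) := fun {V} k =>
    k.left.appTop (AffineSpace.coord S (PUnit.unit : PUnit.{u + 1}))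
  have co_mk : ∀ {V : Over S} (b : Γ(V.left, ⊤)), co (mk b) = b := fun {V} b =>
    AffineSpace.homOfVector_appTop_coord _ _ _
  have co_comp : ∀ {V W : Over S} (j : V ⟶ W) (k : W ⟶ A), co (j ≫ k) = j.left.appTop (co k) := by
    intro V W j k
    change (j ≫ k).left.appTop _ = _
    rw [Over.comp_left, Scheme.Hom.comp_appTop]
    rfl
  have ext : ∀ {V : Over S} (k k' : V ⟶ A), co k = co k' → k = k' := by
    intro V k k' h
    apply Over.OverMorphism.ext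
    apply AffineSpace.hom_ext
    · exact (Over.w k).trans (Over.w k').symm
    · rintro ⟨⟩
      exact h
  obtain ⟨χ, hχ, hu⟩ := h ((AlgSp.yon S).obj A) (AlgSp.IsAlgSpace.yon_obj A) ((AlgSp.yon S).map (mk a)) (by
    intro T x x' γ h1 h2
    apply ULift.ext
    change x' ≫ mk a = x ≫ mk a
    apply ext
    rw [co_comp, co_comp, co_mk]
    exact ha x x' γ h1 h2)
  obtain ⟨k, rfl⟩ := (AlgSp.yon S).map_surjective χ
  rw [← Functor.map_comp] at hχ
  have hk : q ≫ k = mk a := (AlgSp.yon S).map_injective hχ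
  refine ⟨co k, ?_, ?_⟩
  · change q.left.appTop (co k) = a
    rw [← co_comp, hk, co_mk]
  · intro r hr
    have h1 : q ≫ mk r = mk a := by
      apply ext
      rw [co_comp, co_mk, co_mk]
      exact hr
    have h2 := hu ((AlgSp.yon S).map (mk r)) (by
      change (AlgSp.yon S).map q ≫ (AlgSp.yon S).map (mk r) = _
      rw [← Functor.map_comp, h1])
    rw [← (AlgSp.yon S).map_injective h2, co_mk]

end K841.FpMod
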